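import Mathlib
import Cfsg.Agent.Lib.TypeM23.Defs

/-!
# The central quotient of the subgroup generated by the members commuting with `a`
-/

set_option autoImplicit false
set_option linter.all false

namespace Cfsg.Agent.Lib.TypeM23

open Cfsg Cfsg.Agent.Lib.TypeM22

variable {G : Type*} [Group G] {D : Set G}

/-- A member commuting with `a`, as an element of the subgroup. -/
def inc {a y : G} (hy : y ∈ Da D a) : ↥(HH D a) := ⟨y, Subgroup.subset_closure hy⟩

@[simp] theorem inc_coe {a y : G} (hy : y ∈ Da D a) : ((inc hy : ↥(HH D a)) : G) = y := rfl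

section

variable {a : G} {U : Type*} [Group U] (ε : ↥(HH D a) →* U) (hk : ε.ker = Subgroup.center ↥(HH D a))
include hk

theorem comm_of_ker {z : ↥(HH D a)} (hz : ε z = 1) (w : ↥(HH D a)) : Commute (z : G) (w : G) := by
  have h1 : z ∈ ε.ker := hz
  rw [hk, Subgroup.mem_center_iff] at h1
  have := h1 w
  exact (congrArg Subtype.val this).symm

theorem ker_of_comm {z : ↥(HH D a)} (hz : ∀ y (hy : y ∈ Da D a), Commute (z : G) y) : ε z = 1 := by
  have : z ∈ Subgroup.center ↥(HH D a) := by
    rw [Subgroup.mem_center_iff]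
    intro w
    have hcl : ∀ g ∈ HH D a, Commute (z : G) g := by
      intro g hg
      induction hg using Subgroup.closure_induction with
      | mem x hx => exact hz x hx
      | one => exact Commute.one_right _
      | mul x y _ _ hx hy => exact hx.mul_right hy
      | inv x _ hx => exact hx.inv_right
    exact Subtype.ext (hcl w w.2).symm
  rw [← hk] at this
  exact this

variable (hD : IsThreeTranspositionGroup D) (hP : IsPrimitiveUnderConj D) [Finite G]
  {b : G} (ha : a ∈ D) (hb : b ∈ D) (hab : ¬ Commute a b)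
include hD hP ha hb hab

theorem eps_ne {y : G} (hy : y ∈ Da D a) : ε (inc hy) ≠ 1 := by
  intro h
  refine nb_inj hD hP ha hy.1 hb hab hy.2.1.symm ?_
  rintro z ⟨hz, hc⟩
  refine ⟨hz, ?_⟩
  by_cases hza : z = a
  · subst hza
    exact hy.2.2.symm
  · exact comm_of_ker ε hk h (inc (⟨hz, hza, hc⟩ : z ∈ Da D a))

theorem exists_not_comm_da {y : G} (hy : y ∈ Da D a) : ∃ t, ∃ _ : t ∈ Da D a, ¬ Commute y t := by
  by_contra hcon
  push Not at hcon
  exact eps_ne ε hk hD hP ha hb hab hy (ker_of_comm ε hk (z := inc hy) hcon)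

theorem eps_inj {y y' : G} (hy : y ∈ Da D a) (hy' : y' ∈ Da D a) (h : ε (inc hy) = ε (inc hy')) : y = y' := by
  obtain ⟨t, ht, hnc⟩ := exists_not_comm_da ε hk hD hP ha hb hab hy
  have h1 : ε (inc hy * inc hy') = 1 := by
    rw [map_mul, h, ← map_mul]
    have hs : inc hy' * inc hy' = (1 : ↥(HH D a)) := Subtype.ext (sq_of_mem hD hy'.1)
    rw [hs, map_one]
  have hu : ∀ w : ↥(HH D a), Commute (y * y') (w : G) := fun w => comm_of_ker ε hk h1 w
  have hut : Commute (y * y') t := hu (inc ht)
  have huy : Commute (y * y') y := hu (inc hy)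
  have hy2 := sq_of_mem hD hy.1
  have hy'2 := sq_of_mem hD hy'.1
  -- `y'` is `y` times the central element
  have e1 : y' = y * (y * y') := by rw [← mul_assoc, hy2, one_mul]
  have hcy : y * y' = y' * y := by
    have h2 := huy.eq
    have h3 : y * y' * y = y * (y * y') := h2
    rw [← mul_assoc y y y', hy2, one_mul] at h3
    calc y * y' = (y * y' * y) * y := by rw [mul_assoc _ y y, hy2, mul_one]
      _ = y' * y := by rw [h3]
  have huu : (y * y') * (y * y') = 1 := by
    calc (y * y') * (y * y') = y * (y' * y) * y' := by group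
      _ = y * (y * y') * y' := by rw [hcy]
      _ = (y * y) * (y' * y') := by group
      _ = 1 := by rw [hy2, hy'2, one_mul]
  have e2 : y' * t = (y * t) * (y * y') := by
    have h4 := hut.eq
    calc y' * t = y * (y * y') * t := by rw [← e1]
      _ = y * ((y * y') * t) := by group
      _ = y * (t * (y * y')) := by rw [h4]
      _ = (y * t) * (y * y') := by group
  have hc : Commute (y * t) (y * y') := (huy.symm.mul_left hut.symm)
  rcases hD.1.2 y' hy'.1 t ht.1 with h2 | h3
  · exfalso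
    rw [e2, hc.mul_pow, pow_two (y * y'), huu, mul_one] at h2
    -- then `y` and `t` commute
    apply hnc
    have h5 : y * t * (y * t) = 1 := by rw [← pow_two]; exact h2
    show y * t = t * y
    calc y * t = y * t * (y * t) * (t⁻¹ * y⁻¹) := by group
      _ = t * y := by rw [h5, inv_of_mem hD hy.1, inv_of_mem hD ht.1, one_mul]
  · rw [e2, hc.mul_pow, cube_of_not_comm hD hy.1 ht.1 hnc, one_mul] at h3
    have e3 : (y * y') ^ 3 = y * y' := by
      rw [pow_succ, pow_two, huu, one_mul]
    rw [e3] at h3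
    calc y = y * (y' * y') := by rw [hy'2, mul_one]
      _ = (y * y') * y' := by group
      _ = y' := by rw [h3, one_mul]

theorem eps_comm {y y' : G} (hy : y ∈ Da D a) (hy' : y' ∈ Da D a) (h : Commute (ε (inc hy)) (ε (inc hy'))) :
    Commute y y' := by
  by_contra hn
  have h3 := cube_of_not_comm hD hy.1 hy'.1 hn
  have h4 : (ε (inc hy) * ε (inc hy')) ^ 3 = 1 := by
    rw [← map_mul, ← map_pow]
    have : (inc hy * inc hy') ^ 3 = (1 : ↥(HH D a)) := Subtype.ext h3
    rw [this, map_one]
  have hs : ε (inc hy) * ε (inc hy) = 1 := by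
    rw [← map_mul]
    have : inc hy * inc hy = (1 : ↥(HH D a)) := Subtype.ext (sq_of_mem hD hy.1)
    rw [this, map_one]
  have hs' : ε (inc hy') * ε (inc hy') = 1 := by
    rw [← map_mul]
    have : inc hy' * inc hy' = (1 : ↥(HH D a)) := Subtype.ext (sq_of_mem hD hy'.1)
    rw [this, map_one]
  have h5 : (ε (inc hy) * ε (inc hy')) ^ 2 = 1 := by
    rw [h.mul_pow, pow_two, pow_two, hs, hs', one_mul]
  have h6 : ε (inc hy) * ε (inc hy') = 1 := by
    have : (ε (inc hy) * ε (inc hy')) ^ 3 = (ε (inc hy) * ε (inc hy')) ^ 2 * (ε (inc hy) * ε (inc hy')) := by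
      rw [pow_succ]
    rw [this, h5, one_mul] at h4
    exact h4
  have h7 : ε (inc hy) = ε (inc hy') := by
    calc ε (inc hy) = ε (inc hy) * (ε (inc hy') * ε (inc hy')) := by rw [hs', mul_one]
      _ = (ε (inc hy) * ε (inc hy')) * ε (inc hy') := by group
      _ = ε (inc hy') := by rw [h6, one_mul]
  exact hn (by rw [eps_inj ε hk hD hP ha hb hab hy hy' h7])

theorem eps_conj_da (h : ↥(HH D a)) {y : G} (hy : y ∈ Da D a) :
    ε (inc (da_conj_HH hD ha h.2 hy)) = ε h * ε (inc hy) * (ε h)⁻¹ := by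
  rw [← map_inv, ← map_mul, ← map_mul]
  rfl

theorem eps_mem {Tb : Set U} (hU : UData U Tb) (hs : Function.Surjective ε) {y : G} (hy : y ∈ Da D a) :
    ε (inc hy) ∈ Tb := by
  refine hU.e1 _ ?_ (eps_ne ε hk hD hP ha hb hab hy) ?_
  · rw [← map_pow]
    have : (inc hy) ^ 2 = (1 : ↥(HH D a)) := Subtype.ext (by
      show y ^ 2 = 1
      rw [pow_two]; exact sq_of_mem hD hy.1)
    rw [this, map_one]
  · intro g
    obtain ⟨h, rfl⟩ := hs g
    rw [← eps_conj_da ε hk hD hP ha hb hab h hy, ← map_mul, ← map_pow, ← map_pow]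
    rcases hD.1.2 y hy.1 _ (da_conj_HH hD ha h.2 hy).1 with h2 | h3
    · left
      have : (inc hy * inc (da_conj_HH hD ha h.2 hy)) ^ 2 = (1 : ↥(HH D a)) := Subtype.ext h2
      rw [this, map_one]
    · right
      have : (inc hy * inc (da_conj_HH hD ha h.2 hy)) ^ 3 = (1 : ↥(HH D a)) := Subtype.ext h3
      rw [this, map_one]

theorem eps_exists {Tb : Set U} (hU : UData U Tb) (hs : Function.Surjective ε) {y0 : G} (hy0 : y0 ∈ Da D a)
    {t : U} (ht : t ∈ Tb) : ∃ y, ∃ hy : y ∈ Da D a, ε (inc hy) = t := by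
  obtain ⟨g, hg⟩ := isConj_iff.mp (hU.tb_conj _ (eps_mem ε hk hD hP ha hb hab hU hs hy0) t ht)
  obtain ⟨h, rfl⟩ := hs g
  refine ⟨_, da_conj_HH hD ha h.2 hy0, ?_⟩
  rw [eps_conj_da ε hk hD hP ha hb hab h hy0, hg]

end

end Cfsg.Agent.Lib.TypeM23
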