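import Mathlib
import Cfsg.Agent.Lib.TypeM23.Eps

/-!
# The letters inside the subgroup generated by the members commuting with two members
-/

set_option autoImplicit false
set_option linter.all false

namespace Cfsg.Agent.Lib.TypeM23

open Cfsg Cfsg.Agent.Lib.TypeM22

variable {G : Type*} [Group G] {D : Set G}

/-- The subgroup generated by the members commuting with two members. -/
abbrev LL (D : Set G) (a b : G) : Subgroup G := Subgroup.closure (Da D a ∩ Da D b)

theorem comm_of_mem_LL {a b h : G} (hh : h ∈ LL D a b) : Commute a h ∧ Commute b h := by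
  induction hh using Subgroup.closure_induction with
  | mem x hx => exact ⟨hx.1.2.2, hx.2.2.2⟩
  | one => exact ⟨Commute.one_right _, Commute.one_right _⟩
  | mul x y _ _ hx hy => exact ⟨hx.1.mul_right hy.1, hx.2.mul_right hy.2⟩
  | inv x _ hx => exact ⟨hx.1.inv_right, hx.2.inv_right⟩

/-- A member, as an element of the subgroup. -/
def incL {a b y : G} (hy : y ∈ Da D a ∩ Da D b) : ↥(LL D a b) := ⟨y, Subgroup.subset_closure hy⟩

@[simp] theorem incL_coe {a b y : G} (hy : y ∈ Da D a ∩ Da D b) : ((incL hy : ↥(LL D a b)) : G) = y := rfl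

theorem lam_comm {X : Type*} [Group X] {a b : G} (l : ↥(LL D a b) →* X) (hl : l.ker = Subgroup.center ↥(LL D a b))
    {z : ↥(LL D a b)} (hz : l z = 1) (w : ↥(LL D a b)) : Commute (z : G) (w : G) := by
  have h1 : z ∈ l.ker := hz
  rw [hl, Subgroup.mem_center_iff] at h1
  exact (congrArg Subtype.val (h1 w)).symm

variable (hD : IsThreeTranspositionGroup D)
include hD

theorem exists_tau {a b : G} (ha : a ∈ D) (hb : b ∈ D) {X : Type*} [Group X] {r : Fin 8 → X} (hX : XData X r)
    (l : ↥(LL D a b) →* X) (hls : Function.Surjective l) (hl : l.ker = Subgroup.center ↥(LL D a b)) :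
    ∃ τ : Fin 8 → G, (∀ i, τ i ∈ Da D a ∩ Da D b) ∧ Pat τ ∧
      (∀ i, Commute (v1 τ) (τ i) ∧ Commute (v2 τ) (τ i) ∧ Commute (v3 τ) (τ i)) := by
  -- some member has non-trivial image
  have hex : ∃ s, ∃ hs : s ∈ Da D a ∩ Da D b, l (incL hs) ≠ 1 := by
    by_contra hcon
    push Not at hcon
    have hall : ∀ (x : G) (hx : x ∈ LL D a b), l ⟨x, hx⟩ = 1 := by
      intro x hx
      induction hx using Subgroup.closure_induction with
      | mem x hx => exact hcon x hx
      | one => exact map_one l
      | mul x y hx hy ihx ihy =>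
        have : (⟨x * y, mul_mem hx hy⟩ : ↥(LL D a b)) = ⟨x, hx⟩ * ⟨y, hy⟩ := rfl
        rw [this, map_mul, ihx, ihy, one_mul]
      | inv x hx ih =>
        have : (⟨x⁻¹, inv_mem hx⟩ : ↥(LL D a b)) = ⟨x, hx⟩⁻¹ := rfl
        rw [this, map_inv, ih, inv_one]
    obtain ⟨z, hz⟩ := hls (r 0)
    apply hX.ne 0
    rw [← hz]
    exact hall z z.2
  obtain ⟨s, hs, hne⟩ := hex
  have hconj : ∀ h : ↥(LL D a b), (h : G) * s * (h : G)⁻¹ ∈ Da D a ∩ Da D b := by
    intro h
    have h1 := comm_of_mem_LL h.2
    exact ⟨da_conj hD ha h1.1 hs.1, da_conj hD hb h1.2 hs.2⟩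
  have hsq : (l (incL hs)) ^ 2 = 1 := by
    rw [← map_pow]
    have : (incL hs) ^ 2 = (1 : ↥(LL D a b)) := Subtype.ext (by
      show s ^ 2 = 1
      rw [pow_two]; exact sq_of_mem hD hs.1.1)
    rw [this, map_one]
  have hcls : ∀ g : X, ((l (incL hs)) * (g * l (incL hs) * g⁻¹)) ^ 2 = 1 ∨
      ((l (incL hs)) * (g * l (incL hs) * g⁻¹)) ^ 3 = 1 := by
    intro g
    obtain ⟨h, rfl⟩ := hls g
    have e : l h * l (incL hs) * (l h)⁻¹ = l (incL (hconj h)) := by
      rw [← map_inv, ← map_mul, ← map_mul]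
      rfl
    rw [e, ← map_mul, ← map_pow, ← map_pow]
    rcases hD.1.2 s hs.1.1 _ (hconj h).1.1 with h2 | h3
    · left
      have : (incL hs * incL (hconj h)) ^ 2 = (1 : ↥(LL D a b)) := Subtype.ext h2
      rw [this, map_one]
    · right
      have : (incL hs * incL (hconj h)) ^ 3 = (1 : ↥(LL D a b)) := Subtype.ext h3
      rw [this, map_one]
  have hcj : ∀ i, ∃ h : ↥(LL D a b), l (incL (hconj h)) = r i := by
    intro i
    obtain ⟨g, hg⟩ := isConj_iff.mp (hX.cls _ hsq hne hcls i)
    obtain ⟨h, rfl⟩ := hls g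
    refine ⟨h, ?_⟩
    rw [← hg, ← map_inv, ← map_mul, ← map_mul]
    rfl
  choose hh hhm using hcj
  let τ : Fin 8 → G := fun i => (hh i : G) * s * (hh i : G)⁻¹
  have hτ : ∀ i, τ i ∈ Da D a ∩ Da D b := fun i => hconj (hh i)
  have hlt : ∀ i, l (incL (hτ i)) = r i := hhm
  have hrsq : ∀ i, r i * r i = 1 := by
    intro i
    rw [← hlt i, ← map_mul]
    have : incL (hτ i) * incL (hτ i) = (1 : ↥(LL D a b)) := Subtype.ext (sq_of_mem hD (hτ i).1.1)
    rw [this, map_one]
  have hne2 : ∀ i j, i ≠ j → τ i ≠ τ j := by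
    intro i j hij e
    apply (hX.pat i j hij).1
    rw [← hlt i, ← hlt j]
    congr 1
    exact Subtype.ext e
  refine ⟨τ, hτ, ?_, ?_⟩
  · intro i j hij
    constructor
    · intro hadj hc
      -- commuting members with cube: equal
      have h3 := (hX.pat i j hij).2.1 hadj
      have h2 : (r i * r j) ^ 2 = 1 := by
        have hcr : Commute (r i) (r j) := by
          rw [← hlt i, ← hlt j]
          show _ * _ = _ * _
          rw [← map_mul, ← map_mul]
          congr 1
          exact Subtype.ext hc.eq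
        rw [hcr.mul_pow, pow_two, pow_two, hrsq, hrsq, one_mul]
      have h1 : r i * r j = 1 := by
        have : (r i * r j) ^ 3 = (r i * r j) ^ 2 * (r i * r j) := pow_succ _ _
        rw [this, h2, one_mul] at h3
        exact h3
      apply (hX.pat i j hij).1
      calc r i = r i * (r j * r j) := by rw [hrsq, mul_one]
        _ = (r i * r j) * r j := by group
        _ = r j := by rw [h1, one_mul]
    · intro hadj
      refine ⟨?_, hne2 i j hij⟩
      by_contra hnc
      have h2 := (hX.pat i j hij).2.2 hadj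
      have h3 : (r i * r j) ^ 3 = 1 := by
        rw [← hlt i, ← hlt j, ← map_mul, ← map_pow]
        have : (incL (hτ i) * incL (hτ j)) ^ 3 = (1 : ↥(LL D a b)) :=
          Subtype.ext (cube_of_not_comm hD (hτ i).1.1 (hτ j).1.1 hnc)
        rw [this, map_one]
      have h1 : r i * r j = 1 := by
        have : (r i * r j) ^ 3 = (r i * r j) ^ 2 * (r i * r j) := pow_succ _ _
        rw [this, h2, one_mul] at h3
        exact h3
      apply (hX.pat i j hij).1
      calc r i = r i * (r j * r j) := by rw [hrsq, mul_one]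
        _ = (r i * r j) * r j := by group
        _ = r j := by rw [h1, one_mul]
  · intro i
    let τ' : Fin 8 → ↥(LL D a b) := fun i => incL (hτ i)
    have hτ' : ∀ i, (LL D a b).subtype (τ' i) = τ i := fun i => rfl
    have e1 : ((v1 τ' : ↥(LL D a b)) : G) = v1 τ := by
      exact v1_map (LL D a b).subtype τ'
    have e2 : ((v2 τ' : ↥(LL D a b)) : G) = v2 τ := by
      exact v2_map (LL D a b).subtype τ'
    have e3 : ((v3 τ' : ↥(LL D a b)) : G) = v3 τ := by
      exact v3_map (LL D a b).subtype τ'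
    have h1 : l (v1 τ') = 1 := by
      rw [v1_map]
      exact (congrArg v1 (funext hlt)).trans hX.rel1
    have h2 : l (v2 τ') = 1 := by
      rw [v2_map]
      exact (congrArg v2 (funext hlt)).trans hX.rel2
    have h3 : l (v3 τ') = 1 := by
      rw [v3_map]
      exact (congrArg v3 (funext hlt)).trans hX.rel3
    refine ⟨?_, ?_, ?_⟩
    · rw [← e1]; exact lam_comm l hl h1 (τ' i)
    · rw [← e2]; exact lam_comm l hl h2 (τ' i)
    · rw [← e3]; exact lam_comm l hl h3 (τ' i)

end Cfsg.Agent.Lib.TypeM23
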